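import Cfsg.Agent.Lib.CoxWord.Triple.DataB
import Cfsg.Agent.Lib.CoxWord.Triple.Check3
import Mathlib.GroupTheory.Subgroup.Center

/-!
The hypotheses of the congruence argument in `Y422`: the spider element is central and the two
highest roots of type `E7` give the same reflection.
-/

set_option autoImplicit false

namespace CfsgLib.CoxWord.Triple

open CfsgLib.CoxWord CfsgLib.CoxWord.Y555

variable {G : Type*} [Group G] {g : ℕ → G}

theorem ev_pw (w : List ℕ) : ∀ n : ℕ, ev g (pw w n) = ev g w ^ n := by
  intro n
  induction n with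
  | zero => simp [pw]
  | succ n ih => rw [pw, ev_append, ih, pow_succ']

theorem ev_cj (h : Rels adjC g) (a w : List ℕ) : ev g (cj a w) = ev g a * ev g w * (ev g a)⁻¹ := by
  rw [cj, ev_append, ev_append, h.ev_reverse]

theorem central_cj (h : Rels adjC g) (a : List ℕ) {M : List ℕ}
    (hM : ev g M ∈ Subgroup.center G) : ev g (cj a M) ∈ Subgroup.center G := by
  rw [ev_cj h, Subgroup.mem_center_iff.mp hM, mul_inv_cancel_right]
  exact hM

theorem move_central (h : Rels adjC g) {M p x : List ℕ} (hM : ev g M ∈ Subgroup.center G)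
    (e : ev g (M ++ p ++ M.reverse) = ev g x) : ev g p = ev g x := by
  rw [ev_append, ev_append, h.ev_reverse, ← Subgroup.mem_center_iff.mp hM, mul_inv_cancel_right] at e
  exact e

theorem conj_eq (h : Rels adjC g) {u a b x y : List ℕ} (e : ev g a = ev g b)
    (ha : ev g (cj u a) = ev g x) (hb : ev g (cj u b) = ev g y) : ev g x = ev g y := by
  rw [← ha, ← hb, ev_cj h, ev_cj h, e]

/-- A central spider element identifies the centres of the two subgroups of type `E7`. -/
theorem roots_eq (h : Rels adjC g) (hs : ev g spW ^ 10 ∈ Subgroup.center G) :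
    ev g rA = ev g rB := by
  have hM : ∀ a : List ℕ, ev g (cj a (pw spW 10)) ∈ Subgroup.center G := fun a =>
    central_cj h a (by rw [ev_pw]; exact hs)
  exact (move_central h (hM _) (ev_mv0 h)).trans (move_central h (hM _) (ev_mv1 h))

/-- The hypotheses. -/
structure Base (g : ℕ → G) : Prop where
  spider : ev g spW ^ 10 ∈ Subgroup.center G
  roots : ev g rA = ev g rB

theorem Base.zed (h : Rels adjC g) (hb : Base g) : ev g z0 = ev g z1 := by
  rw [ev_z12 h, ← ev_zNorm2 h, ev_z13 h, ev_append, ev_append, hb.roots]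

theorem Base.m0 (h : Rels adjC g) (hb : Base g) : ev g mAB ∈ Subgroup.center G := by
  have e : ev g rA * ev g rA = 1 := by
    rw [← mul_inv_cancel (ev g rA), ← h.ev_reverse, show rA.reverse = rA from by decide +kernel]
  rw [← c79 h, ev_append, ← hb.roots, e]
  exact one_mem _

theorem Base.m1 (h : Rels adjC g) (hb : Base g) : ev g mBA ∈ Subgroup.center G := by
  have e : ev g rA * ev g rA = 1 := by
    rw [← mul_inv_cancel (ev g rA), ← h.ev_reverse, show rA.reverse = rA from by decide +kernel]
  rw [← c80 h, ev_append, ← hb.roots, e]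
  exact one_mem _

theorem Base.topRoot (h : Rels adjC g) (hb : Base g) : ev g tA = ev g tB := by
  rw [← c81 h, ← c82 h]
  simp only [ev_append, hb.zed h]

theorem ev_palindrome (h : Rels adjC g) {w : List ℕ} (hw : w.reverse = w) :
    ev g w * ev g w = 1 := by
  rw [← mul_inv_cancel (ev g w), ← h.ev_reverse, hw]

theorem Base.m2 (h : Rels adjC g) (hb : Base g) : ev g mT ∈ Subgroup.center G := by
  rw [← c83 h, ev_append, ← hb.topRoot h, ev_palindrome h (by decide +kernel)]
  exact one_mem _

theorem Base.m3 (h : Rels adjC g) (hb : Base g) : ev g mT2 ∈ Subgroup.center G := by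
  rw [← c84 h, ev_append, ← hb.topRoot h, ev_palindrome h (by decide +kernel)]
  exact one_mem _

theorem Base.m4 (h : Rels adjC g) (hb : Base g) : ev g mS ∈ Subgroup.center G := by
  rw [← c78 h, ev_pw]
  exact hb.spider

theorem Base.m5 (h : Rels adjC g) (hb : Base g) : ev g mS2 ∈ Subgroup.center G := by
  rw [← c85 h, h.ev_reverse]
  exact inv_mem (hb.m4 h)

end CfsgLib.CoxWord.Triple
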