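import Cfsg.Agent.Lib.CoxWord.Triple.Check0
import Cfsg.Agent.Lib.CoxWord.Triple.Check1
import Cfsg.Agent.Lib.CoxWord.Triple.Check2
import Cfsg.Agent.Lib.CoxWord.Triple.Check3
import Cfsg.Agent.Lib.CoxWord.Triple.Base

/-!
Roots congruent modulo 3 give equal reflections.
-/

set_option autoImplicit false

namespace CfsgLib.CoxWord.Triple

open CfsgLib.CoxWord CfsgLib.CoxWord.Y555

variable {G : Type*} [Group G] {g : ℕ → G}

theorem edge0 (h : Rels adjC g) (hb : Base g) : ev g ro7 = ev g ro8 :=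
  move_central h (central_cj h gm6 (hb.m5 h)) (c0 h)

theorem edge1 (h : Rels adjC g) (hb : Base g) : ev g ro10 = ev g ro8 :=
  move_central h (central_cj h gm9 (hb.m1 h)) (c1 h)

theorem edge2 (h : Rels adjC g) (hb : Base g) : ev g ro12 = ev g ro10 :=
  move_central h (central_cj h gm11 (hb.m1 h)) (c2 h)

theorem edge3 (h : Rels adjC g) (hb : Base g) : ev g ro15 = ev g ro16 :=
  move_central h (central_cj h gm14 (hb.m4 h)) (c3 h)

theorem edge4 (h : Rels adjC g) (hb : Base g) : ev g ro16 = ev g ro21 :=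
  move_central h (central_cj h gm20 (hb.m0 h)) (c6 h)

theorem edge5 (h : Rels adjC g) (hb : Base g) : ev g ro24 = ev g ro7 :=
  move_central h (central_cj h gm23 (hb.m1 h)) (c8 h)

theorem edge6 (h : Rels adjC g) (hb : Base g) : ev g ro28 = ev g ro29 :=
  move_central h (central_cj h gm27 (hb.m5 h)) (c9 h)

theorem edge7 (h : Rels adjC g) (hb : Base g) : ev g ro34 = ev g ro29 :=
  move_central h (central_cj h gm33 (hb.m1 h)) (c12 h)

theorem edge8 (h : Rels adjC g) (hb : Base g) : ev g ro37 = ev g ro34 :=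
  move_central h (central_cj h gm36 (hb.m1 h)) (c14 h)

theorem edge9 (h : Rels adjC g) (hb : Base g) : ev g ro37 = ev g ro40 :=
  move_central h (central_cj h gm39 (hb.m1 h)) (c16 h)

theorem edge10 (h : Rels adjC g) (hb : Base g) : ev g ro40 = ev g ro43 :=
  move_central h (central_cj h gm42 (hb.m1 h)) (c18 h)

theorem edge11 (h : Rels adjC g) (hb : Base g) : ev g ro48 = ev g ro49 :=
  move_central h (central_cj h gm47 (hb.m5 h)) (c20 h)

theorem edge12 (h : Rels adjC g) (hb : Base g) : ev g ro54 = ev g ro55 :=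
  move_central h (central_cj h gm53 (hb.m1 h)) (c23 h)

theorem edge13 (h : Rels adjC g) (hb : Base g) : ev g ro58 = ev g ro55 :=
  move_central h (central_cj h gm23 (hb.m0 h)) (c26 h)

theorem edge14 (h : Rels adjC g) (hb : Base g) : ev g ro61 = ev g ro62 :=
  move_central h (central_cj h gm60 (hb.m1 h)) (c28 h)

theorem edge15 (h : Rels adjC g) (hb : Base g) : ev g ro66 = ev g ro61 :=
  move_central h (central_cj h gm65 (hb.m3 h)) (c31 h)

theorem edge16 (h : Rels adjC g) (hb : Base g) : ev g ro69 = ev g ro70 :=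
  move_central h (central_cj h gm68 (hb.m5 h)) (c33 h)

theorem edge17 (h : Rels adjC g) (hb : Base g) : ev g ro70 = ev g ro72 :=
  move_central h (central_cj h gm71 (hb.m1 h)) (c34 h)

theorem edge18 (h : Rels adjC g) (hb : Base g) : ev g ro74 = ev g ro75 :=
  move_central h (central_cj h gm73 (hb.m4 h)) (c35 h)

theorem edge19 (h : Rels adjC g) (hb : Base g) : ev g ro75 = ev g ro77 :=
  move_central h (central_cj h gm76 (hb.m1 h)) (c36 h)

theorem edge20 (h : Rels adjC g) (hb : Base g) : ev g ro79 = ev g ro77 :=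
  move_central h (central_cj h gm78 (hb.m0 h)) (c37 h)

theorem edge21 (h : Rels adjC g) (hb : Base g) : ev g ro79 = ev g ro81 :=
  move_central h (central_cj h gm80 (hb.m0 h)) (c38 h)

theorem edge22 (h : Rels adjC g) (hb : Base g) : ev g ro83 = ev g ro81 :=
  move_central h (central_cj h gm82 (hb.m0 h)) (c39 h)

theorem edge23 (h : Rels adjC g) (hb : Base g) : ev g ro85 = ev g ro86 :=
  move_central h (central_cj h gm84 (hb.m0 h)) (c40 h)

theorem edge24 (h : Rels adjC g) (hb : Base g) : ev g ro91 = ev g ro86 :=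
  move_central h (central_cj h gm90 (hb.m0 h)) (c43 h)

theorem edge25 (h : Rels adjC g) (hb : Base g) : ev g ro94 = ev g ro95 :=
  move_central h (central_cj h gm93 (hb.m5 h)) (c45 h)

theorem edge26 (h : Rels adjC g) (hb : Base g) : ev g ro99 = ev g ro100 :=
  move_central h (central_cj h gm98 (hb.m1 h)) (c50 h)

theorem edge27 (h : Rels adjC g) (hb : Base g) : ev g ro99 = ev g ro104 :=
  move_central h (central_cj h gm103 (hb.m5 h)) (c53 h)

theorem edge28 (h : Rels adjC g) (hb : Base g) : ev g ro104 = ev g ro107 :=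
  move_central h (central_cj h gm106 (hb.m1 h)) (c55 h)

theorem edge29 (h : Rels adjC g) (hb : Base g) : ev g ro107 = ev g ro110 :=
  move_central h (central_cj h gm109 (hb.m1 h)) (c57 h)

theorem eqE1_0 (h : Rels adjC g) (hb : Base g) : ev g ro7 = ev g ro12 := by
  exact (edge0 h hb).trans
    ((edge1 h hb).symm.trans
    ((edge2 h hb).symm))

theorem eqE2_0 (h : Rels adjC g) (hb : Base g) : ev g ro13 = ev g ro13 := by
  rfl

theorem eqE3_0 (h : Rels adjC g) (hb : Base g) : ev g ro18 = ev g ro22 := by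
  exact (conj_eq h (edge3 h hb) (c4 h) (c5 h)).trans
    ((conj_eq h (edge4 h hb) (c5 h) (c7 h)))

theorem eqE4_0 (h : Rels adjC g) (hb : Base g) : ev g ro12 = ev g ro24 := by
  exact (edge2 h hb).trans
    ((edge1 h hb).trans
    ((edge0 h hb).symm.trans
    ((edge5 h hb).symm)))

theorem eqE1_1 (h : Rels adjC g) (hb : Base g) : ev g ro25 = ev g ro25 := by
  rfl

theorem eqE2_1 (h : Rels adjC g) (hb : Base g) : ev g ro26 = ev g ro26 := by
  rfl

theorem eqE3_1 (h : Rels adjC g) (hb : Base g) : ev g ro31 = ev g ro44 := by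
  exact (conj_eq h (edge6 h hb) (c10 h) (c11 h)).trans
    ((conj_eq h (edge7 h hb).symm (c11 h) (c13 h)).trans
    ((conj_eq h (edge8 h hb).symm (c13 h) (c15 h)).trans
    ((conj_eq h (edge9 h hb) (c15 h) (c17 h)).trans
    ((conj_eq h (edge10 h hb) (c17 h) (c19 h))))))

theorem eqE4_1 (h : Rels adjC g) (hb : Base g) : ev g ro25 = ev g ro25 := by
  rfl

theorem eqE1_2 (h : Rels adjC g) (hb : Base g) : ev g ro45 = ev g ro45 := by
  rfl

theorem eqE2_2 (h : Rels adjC g) (hb : Base g) : ev g ro46 = ev g ro46 := by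
  rfl

theorem eqE3_2 (h : Rels adjC g) (hb : Base g) : ev g ro51 = ev g ro67 := by
  exact (conj_eq h (edge11 h hb) (c21 h) (c22 h)).trans
    ((conj_eq h (edge12 h hb) (c24 h) (c25 h)).trans
    ((conj_eq h (edge13 h hb).symm (c25 h) (c27 h)).trans
    ((conj_eq h (edge14 h hb).symm (c29 h) (c30 h)).trans
    ((conj_eq h (edge15 h hb).symm (c30 h) (c32 h))))))

theorem eqE4_2 (h : Rels adjC g) (hb : Base g) : ev g ro45 = ev g ro45 := by
  rfl

theorem eqE1_3 (h : Rels adjC g) (hb : Base g) : ev g ro69 = ev g ro72 := by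
  exact (edge16 h hb).trans
    ((edge17 h hb))

theorem eqE2_3 (h : Rels adjC g) (hb : Base g) : ev g ro74 = ev g ro83 := by
  exact (edge18 h hb).trans
    ((edge19 h hb).trans
    ((edge20 h hb).symm.trans
    ((edge21 h hb).trans
    ((edge22 h hb).symm))))

theorem eqE3_3 (h : Rels adjC g) (hb : Base g) : ev g ro88 = ev g ro92 := by
  exact (conj_eq h (edge23 h hb) (c41 h) (c42 h)).trans
    ((conj_eq h (edge24 h hb).symm (c42 h) (c44 h)))

theorem eqE4_3 (h : Rels adjC g) (hb : Base g) : ev g ro72 = ev g ro72 := by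
  rfl

theorem eqE5 (h : Rels adjC g) (hb : Base g) : ev g ro74 = ev g ro111 := by
  exact (edge18 h hb).trans
    ((conj_eq h (edge25 h hb) (c46 h) (c47 h)).trans
    ((conj_eq h (edge18 h hb) (c48 h) (c49 h)).trans
    ((conj_eq h (edge26 h hb).symm (c51 h) (c52 h)).trans
    ((conj_eq h (edge27 h hb) (c52 h) (c54 h)).trans
    ((conj_eq h (edge28 h hb) (c54 h) (c56 h)).trans
    ((conj_eq h (edge29 h hb) (c56 h) (c58 h))))))))

end CfsgLib.CoxWord.Triple
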