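import Cfsg.Agent.Lib.CoxWord.Triple.Congr

/-!
A central spider element is trivial: no triple cover of `O7(3)` extends to `Y422`.

For a class `x` of roots modulo 3 orthogonal to the null root `δ`, the product
`R(δ - x) R(x)` of two reflections is well defined, and along a triangle it changes by the
translation of the root in between.  A closed chain of four such steps expresses a translation
in the direction of the spider element, which is therefore trivial.
-/

set_option autoImplicit false

namespace CfsgLib.CoxWord.Triple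

open CfsgLib.CoxWord CfsgLib.CoxWord.Y555

variable {G : Type*} [Group G] {g : ℕ → G}

/-- one step along a triangle. -/
theorem triangle {n r a y x t : G} (hn : n * n = 1) (hr : r * r = 1) (hy : y = n * r * n)
    (hx : x = a * r * a) (ht : t = n * a * n) (hbr : n * r * n = r * n * r) :
    t * r * (y * a) = n * x := by
  subst hy hx ht
  calc n * a * n * r * (n * r * n * a) = n * a * n * (r * r) * (n * r * a) := by
        rw [hbr]; group
    _ = n * a * (n * n) * (r * a) := by rw [hr]; group
    _ = n * (a * r * a) := by rw [hn]; group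

theorem spider_eq_one (h : Rels adjC g) (hs : ev g spW ^ 10 ∈ Subgroup.center G) :
    ev g spW ^ 10 = 1 := by
  have hb : Base g := ⟨hs, roots_eq h hs⟩
  have sq : ∀ w : List ℕ, (w.reverse == w) = true → ev g w * ev g w = 1 := fun w hw =>
    ev_palindrome h (eq_of_beq hw)
  have f0 := c59 h; have f1 := c60 h; have f2 := c61 h; have f3 := c62 h
  have g0 := c63 h; have g1 := c64 h; have g2 := c65 h; have g3 := c66 h
  have k0 := c67 h; have k1 := c68 h; have k2 := c69 h; have k3 := c70 h
  have l0 := c71 h; have l1 := c72 h; have l2 := c73 h; have l3 := c74 h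
  have e5 := c75 h
  simp only [ev_append] at f0 f1 f2 f3 g0 g1 g2 g3 k0 k1 k2 k3 l0 l1 l2 l3 e5
  have t0 := triangle (sq ro25 (by decide +kernel)) (sq ro112 (by decide +kernel))
    ((eqE1_0 h hb).trans f0.symm) ((eqE2_0 h hb).trans f1.symm) ((eqE3_0 h hb).trans f2.symm)
    (f0.trans ((eqE4_0 h hb).trans f3.symm))
  have t1 := triangle (sq ro45 (by decide +kernel)) (sq ro114 (by decide +kernel))
    ((eqE1_1 h hb).trans g0.symm) ((eqE2_1 h hb).trans g1.symm) ((eqE3_1 h hb).trans g2.symm)
    (g0.trans ((eqE4_1 h hb).trans g3.symm))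
  have t2 := triangle (sq ro69 (by decide +kernel)) (sq ro115 (by decide +kernel))
    ((eqE1_2 h hb).trans k0.symm) ((eqE2_2 h hb).trans k1.symm) ((eqE3_2 h hb).trans k2.symm)
    (k0.trans ((eqE4_2 h hb).trans k3.symm))
  have t3 := triangle (sq ro113 (by decide +kernel)) (sq ro116 (by decide +kernel))
    ((eqE1_3 h hb).trans l0.symm) ((eqE2_3 h hb).trans l1.symm) ((eqE3_3 h hb).trans l2.symm)
    (l0.trans ((eqE4_3 h hb).trans l3.symm))
  have hlast : ev g ro113 * ev g ro74 = ev g ro7 * ev g ro113 := by
    rw [eqE5 h hb, ← e5, ← mul_assoc, ← mul_assoc, sq ro113 (by decide +kernel), one_mul]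
  rw [hlast, ← t2, ← t1, ← t0] at t3
  simp only [← mul_assoc] at t3
  have hP : ev g (ro88 ++ ro116 ++ ro51 ++ ro115 ++ ro31 ++ ro114 ++ ro18 ++ ro112) = 1 := by
    simp only [ev_append]
    refine mul_right_cancel (b := ev g ro7 * ev g ro113) ?_
    rw [one_mul]
    simpa [mul_assoc] using t3
  rw [c76 h] at hP
  rw [← ev_pw, c78 h, ← c77 h, ev_append, ev_cj h, ev_cj h, h.ev_reverse, hP]
  group

end CfsgLib.CoxWord.Triple
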