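import Cfsg.Agent.Lib.CoxWord.Words

/-!
Words for the congruence certificates of roots modulo 3 in `Y422`.
-/

set_option autoImplicit false

namespace CfsgLib.CoxWord.Triple

open CfsgLib.CoxWord CfsgLib.CoxWord.Y555

def mAB : List ℕ :=
    [7, 6, 0, 1, 2, 3, 9, 0, 1, 2, 6, 0, 1, 7, 6, 0, 9, 0, 1, 2, 3, 6, 0, 1, 2, 7, 6, 0, 1, 9,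
    0, 6, 7, 10, 9, 0, 1, 2, 3, 6, 0, 1, 2, 9, 0, 1, 6, 0, 9, 10, 9, 0, 1, 2, 3, 6, 0, 1, 2, 9,
    0, 1, 6, 0, 9, 10]

def mBA : List ℕ :=
    [10, 9, 0, 1, 2, 3, 6, 0, 1, 2, 9, 0, 1, 6, 0, 9, 10, 9, 0, 1, 2, 3, 6, 0, 1, 2, 9, 0, 1, 6,
    0, 7, 6, 9, 0, 1, 2, 3, 10, 9, 0, 1, 2, 6, 0, 1, 7, 6, 0, 9, 0, 1, 2, 3, 6, 0, 1, 2, 7, 6,
    0, 1, 9, 0, 6, 7]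

def mT : List ℕ :=
    [4, 3, 2, 1, 0, 6, 7, 9, 0, 1, 2, 3, 4, 6, 0, 1, 2, 3, 9, 0, 1, 2, 6, 0, 1, 7, 6, 0, 9, 0,
    1, 2, 3, 6, 0, 1, 2, 7, 6, 0, 1, 9, 0, 6, 7, 10, 9, 0, 1, 2, 3, 6, 0, 1, 2, 9, 0, 1, 6, 0,
    9, 10, 9, 0, 1, 2, 3, 4, 6, 0, 1, 2, 3, 9, 0, 1, 2, 6, 0, 1, 9, 0, 6, 10, 9, 0, 1, 2, 3, 4]

def mT2 : List ℕ :=
    [4, 3, 2, 1, 0, 6, 9, 0, 1, 2, 3, 4, 10, 9, 0, 1, 2, 3, 6, 0, 1, 2, 9, 0, 1, 6, 0, 9, 10, 9,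
    0, 1, 2, 3, 6, 0, 1, 2, 9, 0, 1, 6, 0, 7, 6, 9, 0, 1, 2, 3, 10, 9, 0, 1, 2, 6, 0, 1, 7, 6,
    0, 9, 0, 1, 2, 3, 4, 6, 0, 1, 2, 3, 7, 6, 0, 1, 2, 9, 0, 1, 6, 0, 7, 6, 9, 0, 1, 2, 3, 4]

def mS : List ℕ :=
    [0, 1, 0, 2, 6, 0, 1, 7, 9, 0, 1, 2, 6, 0, 1, 7, 9, 0, 6, 10, 9, 0, 1, 2, 6, 0, 1, 7, 6, 0,
    9, 0, 1, 6, 0, 7, 6, 10, 9, 0, 1, 2, 6, 0, 1, 7, 6, 0, 9, 0, 1, 6, 0, 7, 6, 10, 9, 0, 1, 2,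
    6, 0, 1, 7, 6, 0, 9, 0, 1, 6, 0, 7, 6, 10, 9, 0, 1, 2, 6, 0, 1, 7, 6, 0, 9, 0, 6, 7, 10, 9]

def mS2 : List ℕ :=
    [2, 7, 6, 9, 0, 1, 10, 9, 0, 1, 2, 6, 0, 1, 7, 6, 0, 9, 0, 1, 2, 6, 0, 1, 10, 9, 0, 1, 2, 6,
    0, 1, 7, 6, 0, 9, 0, 1, 2, 6, 0, 1, 10, 9, 0, 1, 2, 6, 0, 1, 7, 6, 0, 9, 0, 1, 2, 6, 0, 1,
    10, 9, 0, 1, 2, 6, 0, 1, 7, 6, 0, 9, 0, 1, 2, 6, 0, 10, 9, 0, 1, 2, 6, 0, 1, 7, 6, 9, 0, 1]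

def gm6 : List ℕ :=
    [10, 9, 1, 2, 3, 4, 0, 1, 2, 3]

def ro7 : List ℕ :=
    [1, 2, 3, 4, 3, 2, 1, 10, 9, 0, 1, 2, 3, 6, 0, 1, 2, 7, 9, 0, 1, 6, 0, 9, 10, 9, 0, 6, 1, 0,
    9, 7, 2, 1, 0, 6, 3, 2, 1, 0, 9, 10, 1, 2, 3, 4, 3, 2, 1]

def ro8 : List ℕ :=
    [1, 0, 2, 1, 3, 2, 4, 7, 9, 0, 1, 10, 9, 0, 1, 2, 3, 6, 0, 1, 2, 7, 9, 0, 1, 6, 0, 9, 10, 9,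
    0, 6, 1, 0, 9, 7, 2, 1, 0, 6, 3, 2, 1, 0, 9, 10, 1, 0, 9, 7, 4, 2, 3, 1, 2, 0, 1]

def gm9 : List ℕ :=
    [7, 1, 2, 3, 4]

def ro10 : List ℕ :=
    [1, 0, 2, 1, 3, 2, 4, 6, 0, 1, 9, 0, 1, 2, 3, 6, 0, 1, 2, 7, 9, 0, 1, 6, 0, 9, 10, 9, 0, 6,
    1, 0, 9, 7, 2, 1, 0, 6, 3, 2, 1, 0, 9, 1, 0, 6, 4, 2, 3, 1, 2, 0, 1]

def gm11 : List ℕ :=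
    [6, 4, 3, 2, 1, 0, 9, 10, 2, 3, 4]

def ro12 : List ℕ :=
    [1, 2, 3, 4, 3, 2, 1, 6, 0, 1, 2, 3, 7, 6, 9, 0, 1, 2, 3, 6, 0, 1, 7, 6, 0, 9, 10, 9, 0, 1,
    2, 6, 0, 1, 7, 6, 0, 9, 0, 6, 7, 1, 0, 6, 2, 1, 0, 9, 10, 9, 0, 6, 7, 1, 0, 6, 3, 2, 1, 0,
    9, 6, 7, 3, 2, 1, 0, 6, 1, 2, 3, 4, 3, 2, 1]

def ro13 : List ℕ :=
    [0, 1, 2, 3, 2, 1, 4, 9, 0, 1, 2, 3, 6, 0, 1, 2, 7, 9, 0, 1, 6, 0, 9, 10, 9, 0, 6, 1, 0, 9,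
    7, 2, 1, 0, 6, 3, 2, 1, 0, 9, 4, 1, 2, 3, 2, 1, 0]

def gm14 : List ℕ :=
    [7, 3, 4, 2, 3]

def ro15 : List ℕ :=
    [3, 2, 4, 3, 7, 6, 0, 9, 10, 9, 0, 1, 2, 6, 0, 1, 7, 6, 0, 9, 0, 6, 7, 1, 0, 6, 2, 1, 0, 9,
    10, 9, 0, 6, 7, 3, 4, 2, 3]

def ro16 : List ℕ :=
    [3, 2, 1, 0, 4, 3, 2, 1, 6, 0, 9, 0, 1, 2, 6, 0, 1, 7, 6, 0, 9, 10, 9, 0, 6, 7, 1, 0, 6, 2,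
    1, 0, 9, 0, 6, 1, 2, 3, 4, 0, 1, 2, 3]

def gu17 : List ℕ :=
    [1, 2, 3, 2, 1, 4, 3, 2, 1, 0, 6, 0, 1, 2, 3, 9, 0, 1, 2, 3, 6, 0, 1, 7, 6, 0, 9, 10]

def ro18 : List ℕ :=
    [6, 0, 1, 2, 9, 0, 1, 6, 0, 9, 10, 9, 0, 6, 1, 0, 9, 2, 1, 0, 6]

def ro19 : List ℕ :=
    [3, 2, 1, 4, 3, 2, 6, 0, 1, 2, 3, 4, 7, 9, 0, 1, 2, 3, 6, 0, 1, 2, 7, 9, 0, 1, 6, 0, 9, 10,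
    9, 0, 1, 2, 6, 0, 1, 7, 6, 0, 9, 0, 6, 7, 1, 0, 6, 2, 1, 0, 9, 10, 9, 0, 6, 1, 0, 9, 7, 2,
    1, 0, 6, 3, 2, 1, 0, 9, 7, 4, 3, 2, 1, 0, 6, 2, 3, 4, 1, 2, 3]

def gm20 : List ℕ :=
    [9, 3, 2, 0, 1, 0, 6, 4, 3, 2, 1, 0, 9, 3, 4, 0, 6, 1, 7]

def ro21 : List ℕ :=
    [9, 0, 1, 2, 3, 4, 6, 0, 1, 2, 3, 7, 6, 0, 9, 0, 1, 2, 3, 4, 6, 0, 1, 2, 3, 7, 6, 0, 9, 0,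
    1, 2, 6, 0, 1, 7, 6, 0, 9, 10, 9, 0, 6, 7, 1, 0, 6, 2, 1, 0, 9, 0, 6, 7, 3, 2, 1, 0, 6, 4,
    3, 2, 1, 0, 9, 0, 6, 7, 3, 2, 1, 0, 6, 4, 3, 2, 1, 0, 9]

def ro22 : List ℕ :=
    [1, 2, 3, 2, 1, 4, 3, 2, 1, 0, 6, 0, 1, 2, 3, 9, 0, 1, 2, 3, 6, 0, 1, 7, 6, 0, 9, 10, 9, 0,
    1, 2, 3, 4, 6, 0, 1, 2, 3, 7, 6, 0, 9, 0, 1, 2, 3, 4, 6, 0, 1, 2, 3, 7, 6, 0, 9, 0, 1, 2, 6,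
    0, 1, 7, 6, 0, 9, 10, 9, 0, 6, 7, 1, 0, 6, 2, 1, 0, 9, 0, 6, 7, 3, 2, 1, 0, 6, 4, 3, 2, 1,
    0, 9, 0, 6, 7, 3, 2, 1, 0, 6, 4, 3, 2, 1, 0, 9, 10, 9, 0, 6, 7, 1, 0, 6, 3, 2, 1, 0, 9, 3,
    2, 1, 0, 6, 0, 1, 2, 3, 4, 1, 2, 3, 2, 1]

def gm23 : List ℕ :=
    [1, 2, 3, 4]

def ro24 : List ℕ :=
    [1, 2, 3, 4, 3, 2, 1, 7, 6, 0, 1, 2, 3, 9, 0, 1, 2, 6, 0, 1, 7, 6, 0, 9, 10, 9, 0, 6, 7, 1,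
    0, 6, 2, 1, 0, 9, 3, 2, 1, 0, 6, 7, 1, 2, 3, 4, 3, 2, 1]

def ro25 : List ℕ :=
    [1, 2, 3, 4, 3, 2, 1, 6, 0, 1, 2, 3, 9, 0, 1, 2, 6, 0, 1, 7, 6, 0, 9, 10, 9, 0, 6, 7, 1, 0,
    6, 2, 1, 0, 9, 3, 2, 1, 0, 6, 1, 2, 3, 4, 3, 2, 1]

def ro26 : List ℕ :=
    [0, 2, 3, 2, 1, 4, 9, 0, 1, 2, 3, 6, 0, 1, 2, 7, 9, 0, 1, 6, 0, 9, 10, 9, 0, 6, 1, 0, 9, 7,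
    2, 1, 0, 6, 3, 2, 1, 0, 9, 4, 1, 2, 3, 2, 0]

def gm27 : List ℕ :=
    [6, 0, 9, 1, 2, 3, 4, 0, 1, 2, 3, 2]

def ro28 : List ℕ :=
    [1, 4, 3, 2, 6, 0, 1, 2, 3, 4, 9, 0, 1, 2, 3, 6, 0, 1, 2, 7, 9, 0, 1, 6, 0, 9, 10, 9, 0, 6,
    1, 0, 9, 7, 2, 1, 0, 6, 3, 2, 1, 0, 9, 4, 3, 2, 1, 0, 6, 2, 3, 4, 1]

def ro29 : List ℕ :=
    [2, 3, 6, 0, 1, 2, 3, 4, 7, 9, 0, 1, 2, 3, 6, 0, 9, 10, 9, 0, 1, 2, 6, 0, 1, 7, 6, 0, 9, 0,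
    6, 7, 1, 0, 6, 2, 1, 0, 9, 10, 9, 0, 6, 3, 2, 1, 0, 9, 7, 4, 3, 2, 1, 0, 6, 3, 2]

def gu30 : List ℕ :=
    [1, 0, 2, 1, 3, 2, 1, 4, 3, 2, 1, 6, 0, 1, 2, 3, 9, 0, 1, 2, 3, 4, 6]

def ro31 : List ℕ :=
    [2, 6, 7, 9, 0, 1, 6, 0, 9, 10, 9, 0, 6, 1, 0, 9, 7, 6, 2]

def ro32 : List ℕ :=
    [0, 1, 0, 2, 6, 7, 9, 0, 1, 6, 0, 9, 10, 9, 0, 1, 2, 6, 0, 1, 7, 6, 0, 9, 0, 6, 7, 1, 0, 6,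
    2, 1, 0, 9, 10, 9, 0, 6, 1, 0, 9, 7, 6, 2, 0, 1, 0]

def gm33 : List ℕ :=
    [10, 6, 7, 0, 1, 2, 3, 4]

def ro34 : List ℕ :=
    [0, 2, 1, 3, 2, 6, 0, 1, 2, 3, 4, 10, 9, 0, 1, 2, 3, 6, 0, 1, 2, 7, 9, 0, 1, 6, 0, 9, 10, 9,
    0, 6, 1, 0, 9, 7, 2, 1, 0, 6, 3, 2, 1, 0, 9, 10, 4, 3, 2, 1, 0, 6, 2, 3, 1, 2, 0]

def ro35 : List ℕ :=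
    [0, 1, 0, 2, 4, 3, 2, 1, 6, 0, 9, 0, 1, 2, 6, 0, 1, 10, 9, 0, 1, 2, 3, 6, 0, 1, 2, 7, 9, 0,
    1, 6, 0, 9, 10, 9, 0, 6, 1, 0, 9, 7, 2, 1, 0, 6, 3, 2, 1, 0, 9, 10, 1, 0, 6, 2, 1, 0, 9, 0,
    6, 1, 2, 3, 4, 2, 0, 1, 0]

def gm36 : List ℕ :=
    [6, 0, 1, 2, 3, 4]

def ro37 : List ℕ :=
    [0, 2, 1, 3, 2, 6, 0, 1, 2, 3, 4, 7, 6, 0, 1, 2, 3, 9, 0, 1, 2, 6, 0, 1, 7, 6, 0, 9, 10, 9,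
    0, 6, 7, 1, 0, 6, 2, 1, 0, 9, 3, 2, 1, 0, 6, 7, 4, 3, 2, 1, 0, 6, 2, 3, 1, 2, 0]

def ro38 : List ℕ :=
    [0, 1, 0, 2, 4, 3, 2, 1, 6, 0, 7, 6, 9, 0, 1, 2, 3, 6, 0, 1, 7, 6, 0, 9, 0, 1, 2, 6, 0, 1,
    7, 6, 0, 9, 10, 9, 0, 6, 7, 1, 0, 6, 2, 1, 0, 9, 0, 6, 7, 1, 0, 6, 3, 2, 1, 0, 9, 6, 7, 0,
    6, 1, 2, 3, 4, 2, 0, 1, 0]

def gm39 : List ℕ :=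
    [7, 6, 0, 1, 2, 3, 4]

def ro40 : List ℕ :=
    [0, 2, 1, 3, 2, 7, 6, 0, 1, 2, 3, 4, 10, 9, 0, 1, 2, 3, 6, 0, 1, 2, 7, 9, 0, 1, 6, 0, 9, 10,
    9, 0, 6, 1, 0, 9, 7, 2, 1, 0, 6, 3, 2, 1, 0, 9, 10, 4, 3, 2, 1, 0, 6, 7, 2, 3, 1, 2, 0]

def ro41 : List ℕ :=
    [0, 1, 0, 2, 3, 2, 1, 4, 3, 2, 1, 6, 0, 1, 7, 6, 9, 0, 1, 2, 3, 4, 6, 0, 1, 2, 7, 6, 0, 1,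
    10, 9, 0, 1, 2, 3, 6, 0, 1, 2, 7, 9, 0, 1, 6, 0, 9, 10, 9, 0, 6, 1, 0, 9, 7, 2, 1, 0, 6, 3,
    2, 1, 0, 9, 10, 1, 0, 6, 7, 2, 1, 0, 6, 4, 3, 2, 1, 0, 9, 6, 7, 1, 0, 6, 1, 2, 3, 4, 1, 2,
    3, 2, 0, 1, 0]

def gm42 : List ℕ :=
    [10, 0, 9, 1, 0, 6, 7, 6, 0, 1, 2, 3, 4]

def ro43 : List ℕ :=
    [0, 1, 2, 3, 7, 6, 0, 9, 0, 10, 9, 0, 1, 2, 3, 4, 6, 0, 1, 2, 3, 7, 6, 0, 9, 0, 1, 2, 6, 0,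
    1, 7, 6, 0, 9, 10, 9, 0, 6, 7, 1, 0, 6, 2, 1, 0, 9, 0, 6, 7, 3, 2, 1, 0, 6, 4, 3, 2, 1, 0,
    9, 10, 0, 9, 0, 6, 7, 3, 2, 1, 0]

def ro44 : List ℕ :=
    [1, 0, 2, 1, 3, 2, 1, 4, 3, 2, 1, 6, 0, 1, 2, 3, 9, 0, 1, 2, 3, 4, 6, 0, 1, 2, 3, 7, 6, 0,
    9, 0, 10, 9, 0, 1, 2, 3, 4, 6, 0, 1, 2, 3, 7, 6, 0, 9, 0, 1, 2, 6, 0, 1, 7, 6, 0, 9, 10, 9,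
    0, 6, 7, 1, 0, 6, 2, 1, 0, 9, 0, 6, 7, 3, 2, 1, 0, 6, 4, 3, 2, 1, 0, 9, 10, 0, 9, 0, 6, 7,
    3, 2, 1, 0, 6, 4, 3, 2, 1, 0, 9, 3, 2, 1, 0, 6, 1, 2, 3, 4, 1, 2, 3, 1, 2, 0, 1]

def ro45 : List ℕ :=
    [1, 0, 2, 3, 4, 3, 2, 1, 6, 0, 1, 2, 3, 9, 0, 1, 2, 6, 0, 1, 7, 6, 0, 9, 10, 9, 0, 6, 7, 1,
    0, 6, 2, 1, 0, 9, 3, 2, 1, 0, 6, 1, 2, 3, 4, 3, 2, 0, 1]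

def ro46 : List ℕ :=
    [2, 3, 2, 1, 4, 9, 0, 1, 2, 3, 6, 0, 1, 2, 7, 9, 0, 1, 6, 0, 9, 10, 9, 0, 6, 1, 0, 9, 7, 2,
    1, 0, 6, 3, 2, 1, 0, 9, 4, 1, 2, 3, 2]

def gm47 : List ℕ :=
    [1, 2, 3, 4, 0, 1, 2, 3, 2]

def ro48 : List ℕ :=
    [1, 0, 2, 1, 3, 2, 4, 3, 2, 1, 6, 0, 9, 0, 1, 2, 6, 0, 1, 7, 6, 0, 9, 10, 9, 0, 6, 7, 1, 0,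
    6, 2, 1, 0, 9, 0, 6, 1, 2, 3, 4, 2, 3, 1, 2, 0, 1]

def ro49 : List ℕ :=
    [1, 0, 2, 1, 0, 3, 2, 1, 4, 3, 7, 6, 0, 9, 10, 9, 0, 1, 2, 6, 0, 1, 7, 6, 0, 9, 0, 6, 7, 1,
    0, 6, 2, 1, 0, 9, 10, 9, 0, 6, 7, 3, 4, 1, 2, 3, 0, 1, 2, 0, 1]

def gu50 : List ℕ :=
    [0, 1, 0, 2, 3, 2, 4, 3, 2, 1, 0, 6, 0, 1, 2, 3, 9, 0, 1]

def ro51 : List ℕ :=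
    [1, 2, 6, 7, 9, 0, 1, 6, 0, 9, 10, 9, 0, 6, 1, 0, 9, 7, 6, 2, 1]

def ro52 : List ℕ :=
    [1, 0, 2, 1, 4, 3, 2, 1, 0, 6, 7, 9, 0, 1, 6, 0, 9, 10, 9, 0, 1, 2, 6, 0, 1, 7, 6, 0, 9, 0,
    6, 7, 1, 0, 6, 2, 1, 0, 9, 10, 9, 0, 6, 1, 0, 9, 7, 6, 0, 1, 2, 3, 4, 1, 2, 0, 1]

def gm53 : List ℕ :=
    [10, 6, 7, 1, 2, 3, 4]

def ro54 : List ℕ :=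
    [1, 0, 2, 1, 3, 2, 4, 3, 7, 6, 0, 9, 10, 9, 0, 1, 2, 6, 0, 1, 7, 6, 0, 9, 0, 6, 7, 1, 0, 6,
    2, 1, 0, 9, 10, 9, 0, 6, 7, 3, 4, 2, 3, 1, 2, 0, 1]

def ro55 : List ℕ :=
    [1, 2, 3, 4, 6, 7, 6, 0, 1, 9, 0, 1, 2, 3, 6, 0, 1, 2, 7, 9, 0, 1, 6, 0, 9, 10, 9, 0, 6, 1,
    0, 9, 7, 2, 1, 0, 6, 3, 2, 1, 0, 9, 1, 0, 6, 7, 6, 4, 3, 2, 1]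

def gu56 : List ℕ :=
    [0, 1, 0, 2, 3, 2, 4, 3, 2, 1, 0, 6, 0, 1, 2, 3, 9, 0, 1, 2, 3]

def ro57 : List ℕ :=
    [0, 1, 2, 4, 3, 2, 1, 6, 0, 7, 6, 9, 0, 1, 2, 3, 6, 0, 1, 7, 6, 0, 9, 0, 1, 2, 6, 0, 1, 7,
    6, 0, 9, 10, 9, 0, 6, 7, 1, 0, 6, 2, 1, 0, 9, 0, 6, 7, 1, 0, 6, 3, 2, 1, 0, 9, 6, 7, 0, 6,
    1, 2, 3, 4, 2, 1, 0]

def ro58 : List ℕ :=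
    [1, 2, 3, 4, 6, 9, 0, 1, 10, 9, 0, 1, 2, 3, 6, 0, 1, 2, 7, 9, 0, 1, 6, 0, 9, 10, 9, 0, 6, 1,
    0, 9, 7, 2, 1, 0, 6, 3, 2, 1, 0, 9, 10, 1, 0, 9, 6, 4, 3, 2, 1]

def ro59 : List ℕ :=
    [0, 1, 2, 4, 3, 2, 1, 6, 0, 9, 0, 1, 2, 6, 0, 1, 10, 9, 0, 1, 2, 3, 6, 0, 1, 2, 7, 9, 0, 1,
    6, 0, 9, 10, 9, 0, 6, 1, 0, 9, 7, 2, 1, 0, 6, 3, 2, 1, 0, 9, 10, 1, 0, 6, 2, 1, 0, 9, 0, 6,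
    1, 2, 3, 4, 2, 1, 0]

def gm60 : List ℕ :=
    [0, 9, 10, 9, 0, 1, 2, 3, 4]

def ro61 : List ℕ :=
    [0, 7, 9, 0, 1, 2, 10, 9, 0, 1, 2, 3, 4, 6, 0, 1, 2, 3, 9, 0, 1, 2, 6, 0, 1, 7, 6, 0, 9, 10,
    9, 0, 6, 7, 1, 0, 6, 2, 1, 0, 9, 3, 2, 1, 0, 6, 4, 3, 2, 1, 0, 9, 10, 2, 1, 0, 9, 7, 0]

def ro62 : List ℕ :=
    [1, 2, 3, 4, 9, 0, 1, 10, 9, 0, 1, 2, 3, 6, 0, 1, 2, 7, 9, 0, 1, 6, 0, 9, 10, 9, 0, 6, 1, 0,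
    9, 7, 2, 1, 0, 6, 3, 2, 1, 0, 9, 10, 1, 0, 9, 4, 3, 2, 1]

def gu63 : List ℕ :=
    [0, 1, 0, 2, 3, 2, 4, 3, 2, 1, 0, 6, 0, 1, 2, 3, 9, 0, 1, 2, 3, 6]

def ro64 : List ℕ :=
    [0, 1, 2, 3, 2, 4, 3, 2, 1, 6, 0, 1, 2, 9, 0, 1, 2, 3, 6, 0, 1, 2, 7, 9, 10, 9, 0, 1, 2, 3,
    4, 6, 0, 1, 2, 3, 9, 0, 1, 2, 6, 0, 1, 7, 6, 0, 9, 10, 9, 0, 6, 7, 1, 0, 6, 2, 1, 0, 9, 3,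
    2, 1, 0, 6, 4, 3, 2, 1, 0, 9, 10, 9, 7, 2, 1, 0, 6, 3, 2, 1, 0, 9, 2, 1, 0, 6, 1, 2, 3, 4,
    2, 3, 2, 1, 0]

def gm65 : List ℕ :=
    [7, 0, 6, 1, 0, 9, 10, 1, 2, 3, 4]

def ro66 : List ℕ :=
    [0, 1, 7, 6, 0, 9, 0, 6, 7, 10, 9, 0, 1, 2, 3, 4, 6, 0, 1, 2, 3, 7, 6, 0, 9, 0, 1, 2, 6, 0,
    1, 7, 6, 0, 9, 10, 9, 0, 6, 7, 1, 0, 6, 2, 1, 0, 9, 0, 6, 7, 3, 2, 1, 0, 6, 4, 3, 2, 1, 0,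
    9, 10, 7, 6, 0, 9, 0, 6, 7, 1, 0]

def ro67 : List ℕ :=
    [0, 1, 0, 2, 3, 2, 4, 3, 2, 1, 0, 6, 0, 1, 2, 3, 9, 0, 1, 2, 3, 6, 0, 1, 7, 6, 0, 9, 0, 6,
    7, 10, 9, 0, 1, 2, 3, 4, 6, 0, 1, 2, 3, 7, 6, 0, 9, 0, 1, 2, 6, 0, 1, 7, 6, 0, 9, 10, 9, 0,
    6, 7, 1, 0, 6, 2, 1, 0, 9, 0, 6, 7, 3, 2, 1, 0, 6, 4, 3, 2, 1, 0, 9, 10, 7, 6, 0, 9, 0, 6,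
    7, 1, 0, 6, 3, 2, 1, 0, 9, 3, 2, 1, 0, 6, 0, 1, 2, 3, 4, 2, 3, 2, 0, 1, 0]

def gm68 : List ℕ :=
    [0, 6, 1, 2, 3, 4, 0, 1, 2, 3, 2]

def ro69 : List ℕ :=
    [0, 1, 0, 2, 3, 4, 3, 2, 1, 6, 0, 1, 2, 3, 9, 0, 1, 2, 6, 0, 1, 7, 6, 0, 9, 10, 9, 0, 6, 7,
    1, 0, 6, 2, 1, 0, 9, 3, 2, 1, 0, 6, 1, 2, 3, 4, 3, 2, 0, 1, 0]

def ro70 : List ℕ :=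
    [0, 1, 2, 1, 3, 2, 4, 6, 0, 1, 2, 3, 7, 6, 0, 9, 10, 9, 0, 1, 2, 6, 0, 1, 7, 6, 0, 9, 0, 6,
    7, 1, 0, 6, 2, 1, 0, 9, 10, 9, 0, 6, 7, 3, 2, 1, 0, 6, 4, 2, 3, 1, 2, 1, 0]

def gm71 : List ℕ :=
    [10, 7, 0, 1, 2, 3, 4]

def ro72 : List ℕ :=
    [0, 1, 2, 1, 3, 2, 4, 7, 6, 0, 1, 9, 0, 1, 2, 3, 6, 0, 1, 2, 7, 9, 0, 1, 6, 0, 9, 10, 9, 0,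
    6, 1, 0, 9, 7, 2, 1, 0, 6, 3, 2, 1, 0, 9, 1, 0, 6, 7, 4, 2, 3, 1, 2, 1, 0]

def gm73 : List ℕ :=
    [3, 4, 2, 3]

def ro74 : List ℕ :=
    [3, 2, 1, 4, 3, 7, 6, 0, 9, 10, 9, 0, 1, 2, 6, 0, 1, 7, 6, 0, 9, 0, 6, 7, 1, 0, 6, 2, 1, 0,
    9, 10, 9, 0, 6, 7, 3, 4, 1, 2, 3]

def ro75 : List ℕ :=
    [0, 3, 2, 4, 3, 2, 1, 6, 0, 9, 0, 1, 2, 6, 0, 1, 7, 6, 0, 9, 10, 9, 0, 6, 7, 1, 0, 6, 2, 1,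
    0, 9, 0, 6, 1, 2, 3, 4, 2, 3, 0]

def gm76 : List ℕ :=
    [2, 1, 0, 6, 7, 3, 4]

def ro77 : List ℕ :=
    [0, 2, 1, 0, 3, 4, 3, 2, 6, 0, 1, 7, 10, 9, 0, 1, 2, 3, 6, 0, 1, 2, 7, 9, 0, 1, 6, 0, 9, 10,
    9, 0, 6, 1, 0, 9, 7, 2, 1, 0, 6, 3, 2, 1, 0, 9, 10, 7, 1, 0, 6, 2, 3, 4, 3, 0, 1, 2, 0]

def gm78 : List ℕ :=
    [10, 7, 2, 3, 4]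

def ro79 : List ℕ :=
    [0, 2, 1, 0, 3, 4, 3, 2, 7, 6, 9, 0, 1, 2, 3, 6, 0, 9, 10, 9, 0, 1, 2, 6, 0, 1, 7, 6, 0, 9,
    0, 6, 7, 1, 0, 6, 2, 1, 0, 9, 10, 9, 0, 6, 3, 2, 1, 0, 9, 6, 7, 2, 3, 4, 3, 0, 1, 2, 0]

def gm80 : List ℕ :=
    [9, 10, 7, 2, 3, 4]

def ro81 : List ℕ :=
    [2, 1, 3, 4, 3, 9, 0, 1, 2, 6, 0, 1, 7, 10, 9, 0, 1, 2, 3, 6, 0, 1, 2, 7, 9, 0, 1, 6, 0, 9,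
    10, 9, 0, 6, 1, 0, 9, 7, 2, 1, 0, 6, 3, 2, 1, 0, 9, 10, 7, 1, 0, 6, 2, 1, 0, 9, 3, 4, 3, 1,
    2]

def gm82 : List ℕ :=
    [9, 10, 3, 2, 1, 0, 6, 7, 3, 4]

def ro83 : List ℕ :=
    [2, 1, 3, 2, 1, 4, 9, 0, 1, 2, 3, 6, 0, 1, 2, 7, 6, 9, 0, 1, 2, 3, 6, 0, 9, 10, 9, 0, 1, 2,
    6, 0, 1, 7, 6, 0, 9, 0, 6, 7, 1, 0, 6, 2, 1, 0, 9, 10, 9, 0, 6, 3, 2, 1, 0, 9, 6, 7, 2, 1,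
    0, 6, 3, 2, 1, 0, 9, 4, 1, 2, 3, 1, 2]

def gm84 : List ℕ :=
    [7, 0, 1, 2, 3, 4]

def ro85 : List ℕ :=
    [0, 3, 2, 1, 4, 3, 2, 7, 9, 0, 1, 6, 0, 9, 10, 9, 0, 6, 1, 0, 9, 7, 2, 3, 4, 1, 2, 3, 0]

def ro86 : List ℕ :=
    [0, 1, 0, 2, 1, 3, 4, 6, 0, 1, 2, 3, 7, 6, 9, 0, 1, 2, 3, 6, 0, 1, 7, 6, 0, 9, 0, 1, 2, 6,
    0, 1, 7, 6, 0, 9, 10, 9, 0, 6, 7, 1, 0, 6, 2, 1, 0, 9, 0, 6, 7, 1, 0, 6, 3, 2, 1, 0, 9, 6,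
    7, 3, 2, 1, 0, 6, 4, 3, 1, 2, 0, 1, 0]

def gu87 : List ℕ :=
    [0, 2, 1, 3, 2, 1, 0, 4, 3, 7, 9]

def ro88 : List ℕ :=
    [9, 0, 1, 6, 0, 9, 10, 9, 0, 6, 1, 0, 9]

def ro89 : List ℕ :=
    [2, 1, 0, 3, 2, 1, 4, 3, 2, 7, 9, 0, 1, 2, 3, 4, 6, 0, 1, 2, 3, 7, 6, 9, 0, 1, 2, 3, 6, 0,
    1, 7, 6, 0, 9, 0, 1, 2, 6, 0, 1, 7, 6, 0, 9, 10, 9, 0, 6, 7, 1, 0, 6, 2, 1, 0, 9, 0, 6, 7,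
    1, 0, 6, 3, 2, 1, 0, 9, 6, 7, 3, 2, 1, 0, 6, 4, 3, 2, 1, 0, 9, 7, 2, 3, 4, 1, 2, 3, 0, 1, 2]

def gm90 : List ℕ :=
    [0, 6, 7, 1, 2, 3, 4]

def ro91 : List ℕ :=
    [0, 1, 2, 3, 4, 6, 0, 1, 2, 3, 7, 6, 0, 9, 0, 1, 2, 6, 0, 1, 10, 9, 0, 1, 2, 3, 6, 0, 1, 2,
    7, 9, 0, 1, 6, 0, 9, 10, 9, 0, 6, 1, 0, 9, 7, 2, 1, 0, 6, 3, 2, 1, 0, 9, 10, 1, 0, 6, 2, 1,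
    0, 9, 0, 6, 7, 3, 2, 1, 0, 6, 4, 3, 2, 1, 0]

def ro92 : List ℕ :=
    [0, 2, 1, 3, 2, 1, 0, 4, 3, 7, 9, 0, 1, 2, 3, 4, 6, 0, 1, 2, 3, 7, 6, 0, 9, 0, 1, 2, 6, 0,
    1, 10, 9, 0, 1, 2, 3, 6, 0, 1, 2, 7, 9, 0, 1, 6, 0, 9, 10, 9, 0, 6, 1, 0, 9, 7, 2, 1, 0, 6,
    3, 2, 1, 0, 9, 10, 1, 0, 6, 2, 1, 0, 9, 0, 6, 7, 3, 2, 1, 0, 6, 4, 3, 2, 1, 0, 9, 7, 3, 4,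
    0, 1, 2, 3, 1, 2, 0]

def gm93 : List ℕ :=
    [3, 4, 2, 3, 2]

def ro94 : List ℕ :=
    [3, 2, 4, 3, 2, 1, 6, 0, 9, 0, 1, 2, 6, 0, 1, 7, 6, 0, 9, 10, 9, 0, 6, 7, 1, 0, 6, 2, 1, 0,
    9, 0, 6, 1, 2, 3, 4, 2, 3]

def ro95 : List ℕ :=
    [0, 3, 2, 1, 4, 3, 7, 6, 0, 9, 10, 9, 0, 1, 2, 6, 0, 1, 7, 6, 0, 9, 0, 6, 7, 1, 0, 6, 2, 1,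
    0, 9, 10, 9, 0, 6, 7, 3, 4, 1, 2, 3, 0]

def gu96 : List ℕ :=
    [0, 1, 2, 3, 2, 1]

def gu97 : List ℕ :=
    [0, 1, 2, 3, 2, 1, 0]

def gm98 : List ℕ :=
    [0, 1, 2, 3, 4]

def ro99 : List ℕ :=
    [0, 1, 0, 2, 3, 4, 3, 2, 1, 7, 6, 0, 1, 2, 3, 9, 0, 1, 2, 6, 0, 1, 7, 6, 0, 9, 10, 9, 0, 6,
    7, 1, 0, 6, 2, 1, 0, 9, 3, 2, 1, 0, 6, 7, 1, 2, 3, 4, 3, 2, 0, 1, 0]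

def ro100 : List ℕ :=
    [0, 1, 0, 2, 3, 4, 3, 2, 1, 10, 9, 0, 1, 2, 3, 6, 0, 1, 2, 7, 9, 0, 1, 6, 0, 9, 10, 9, 0, 6,
    1, 0, 9, 7, 2, 1, 0, 6, 3, 2, 1, 0, 9, 10, 1, 2, 3, 4, 3, 2, 0, 1, 0]

def gu101 : List ℕ :=
    [0, 1, 2, 3, 2, 1, 0, 4, 3, 2, 7, 9, 0, 1, 2, 3, 6, 0, 1, 2, 7, 9, 0, 1, 6, 0, 9, 10, 9, 0,
    1, 2, 3, 4]

def ro102 : List ℕ :=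
    [0, 1, 2, 3, 2, 1, 4, 3, 2, 1, 7, 9, 0, 1, 2, 3, 6, 0, 1, 2, 7, 6, 9, 0, 1, 2, 3, 4, 6, 0,
    7, 6, 9, 0, 1, 2, 3, 10, 9, 0, 1, 2, 6, 0, 1, 7, 6, 0, 9, 0, 6, 7, 1, 0, 6, 2, 1, 0, 9, 10,
    3, 2, 1, 0, 9, 6, 7, 0, 6, 4, 3, 2, 1, 0, 9, 6, 7, 2, 1, 0, 6, 3, 2, 1, 0, 9, 7, 1, 2, 3, 4,
    1, 2, 3, 2, 1, 0]

def gm103 : List ℕ :=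
    [7, 0, 6, 1, 2, 3, 4, 0, 1, 2, 3, 2]

def ro104 : List ℕ :=
    [0, 1, 2, 1, 3, 2, 4, 6, 0, 1, 7, 6, 0, 1, 2, 3, 9, 10, 9, 0, 1, 2, 6, 0, 1, 7, 6, 0, 9, 0,
    6, 7, 1, 0, 6, 2, 1, 0, 9, 10, 9, 3, 2, 1, 0, 6, 7, 1, 0, 6, 4, 2, 3, 1, 2, 1, 0]

def ro105 : List ℕ :=
    [0, 1, 2, 3, 2, 1, 0, 4, 3, 2, 7, 6, 9, 0, 1, 2, 3, 4, 6, 0, 1, 2, 7, 6, 9, 0, 1, 2, 3, 4,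
    6, 0, 7, 6, 10, 9, 0, 1, 2, 3, 6, 0, 1, 7, 6, 0, 9, 0, 1, 2, 6, 0, 1, 7, 6, 0, 9, 10, 9, 0,
    6, 7, 1, 0, 6, 2, 1, 0, 9, 0, 6, 7, 1, 0, 6, 3, 2, 1, 0, 9, 10, 6, 7, 0, 6, 4, 3, 2, 1, 0,
    9, 6, 7, 2, 1, 0, 6, 4, 3, 2, 1, 0, 9, 6, 7, 2, 3, 4, 0, 1, 2, 3, 2, 1, 0]

def gm106 : List ℕ :=
    [10, 6, 7, 6, 0, 1, 2, 3, 4]

def ro107 : List ℕ :=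
    [2, 3, 6, 0, 1, 2, 7, 6, 0, 1, 2, 3, 4, 9, 0, 1, 2, 3, 6, 0, 1, 2, 7, 9, 0, 1, 6, 0, 9, 10,
    9, 0, 6, 1, 0, 9, 7, 2, 1, 0, 6, 3, 2, 1, 0, 9, 4, 3, 2, 1, 0, 6, 7, 2, 1, 0, 6, 3, 2]

def ro108 : List ℕ :=
    [0, 1, 2, 3, 2, 1, 0, 4, 3, 2, 7, 6, 9, 0, 1, 2, 3, 4, 6, 0, 1, 2, 7, 9, 0, 1, 6, 0, 7, 6,
    9, 10, 9, 0, 1, 2, 3, 4, 6, 0, 1, 2, 7, 6, 0, 1, 9, 0, 1, 2, 3, 6, 0, 1, 2, 7, 9, 0, 1, 6,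
    0, 9, 10, 9, 0, 6, 1, 0, 9, 7, 2, 1, 0, 6, 3, 2, 1, 0, 9, 1, 0, 6, 7, 2, 1, 0, 6, 4, 3, 2,
    1, 0, 9, 10, 9, 6, 7, 0, 6, 1, 0, 9, 7, 2, 1, 0, 6, 4, 3, 2, 1, 0, 9, 6, 7, 2, 3, 4, 0, 1,
    2, 3, 2, 1, 0]

def gm109 : List ℕ :=
    [6, 0, 9, 1, 0, 6, 7, 6, 0, 1, 2, 3, 4]

def ro110 : List ℕ :=
    [6, 0, 1, 2, 3, 7, 6, 0, 9, 0, 1, 2, 3, 4, 6, 0, 1, 7, 10, 9, 0, 1, 2, 3, 6, 0, 1, 2, 7, 9,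
    0, 1, 6, 0, 9, 10, 9, 0, 6, 1, 0, 9, 7, 2, 1, 0, 6, 3, 2, 1, 0, 9, 10, 7, 1, 0, 6, 4, 3, 2,
    1, 0, 9, 0, 6, 7, 3, 2, 1, 0, 6]

def ro111 : List ℕ :=
    [0, 1, 2, 3, 2, 1, 0, 4, 3, 2, 7, 9, 0, 1, 2, 3, 6, 0, 1, 2, 7, 9, 0, 1, 6, 0, 9, 10, 9, 0,
    1, 2, 3, 4, 6, 0, 1, 2, 3, 7, 6, 0, 9, 0, 1, 2, 3, 4, 6, 0, 1, 7, 10, 9, 0, 1, 2, 3, 6, 0,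
    1, 2, 7, 9, 0, 1, 6, 0, 9, 10, 9, 0, 6, 1, 0, 9, 7, 2, 1, 0, 6, 3, 2, 1, 0, 9, 10, 7, 1, 0,
    6, 4, 3, 2, 1, 0, 9, 0, 6, 7, 3, 2, 1, 0, 6, 4, 3, 2, 1, 0, 9, 10, 9, 0, 6, 1, 0, 9, 7, 2,
    1, 0, 6, 3, 2, 1, 0, 9, 7, 2, 3, 4, 0, 1, 2, 3, 2, 1, 0]

def ro112 : List ℕ :=
    [7]

def ro113 : List ℕ :=
    [0, 1, 2, 3, 2, 1, 4, 7, 9, 0, 1, 2, 3, 6, 0, 1, 2, 7, 9, 0, 1, 6, 0, 9, 10, 9, 0, 6, 1, 0,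
    9, 7, 2, 1, 0, 6, 3, 2, 1, 0, 9, 7, 4, 1, 2, 3, 2, 1, 0]

def ro114 : List ℕ :=
    [0, 1, 0]

def ro115 : List ℕ :=
    [0]

def ro116 : List ℕ :=
    [2, 1, 0, 6, 7, 6, 0, 1, 2]

def pc117 : List ℕ :=
    [6, 9, 0, 1, 2, 10, 9, 0, 1, 6, 0, 7, 6, 9, 0, 1, 2, 10, 9, 0, 1, 6, 0, 7, 6, 9, 0, 1, 2,
    10, 9, 0, 1, 6, 0, 7, 6, 9, 0, 1, 2, 10, 9, 0, 1, 6, 0, 7]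

def gs118 : List ℕ :=
    [1, 0, 9, 6]

def tA : List ℕ :=
    [4, 3, 2, 1, 0, 6, 7, 9, 0, 1, 2, 3, 4, 6, 0, 1, 2, 3, 9, 0, 1, 2, 6, 0, 1, 7, 6, 0, 9, 0,
    6, 7, 1, 0, 6, 2, 1, 0, 9, 3, 2, 1, 0, 6, 4, 3, 2, 1, 0, 9, 7, 6, 0, 1, 2, 3, 4]

def tB : List ℕ :=
    [4, 3, 2, 1, 0, 6, 9, 0, 1, 2, 3, 4, 10, 9, 0, 1, 2, 3, 6, 0, 1, 2, 9, 0, 1, 6, 0, 9, 10, 9,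
    0, 6, 1, 0, 9, 2, 1, 0, 6, 3, 2, 1, 0, 9, 10, 4, 3, 2, 1, 0, 9, 6, 0, 1, 2, 3, 4]

end CfsgLib.CoxWord.Triple
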